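import Groth.Agent.Lib.FlatDepth.CMTensor
import Groth.Agent.Lib.FlatH4.FlatLocusScheme
import Groth.Agent.Lib.FibDim14.BaseChange
import Groth.Agent.Lib.FibreLocus.Constr
import Groth.Agent.Lib.CMEquiDim4
import Groth.Agent.Lib.SchBasic.Basic
import Groth.Agent.Lib.ConsH13.Apps
import Groth.Agent.S4949

/-!
Cohen–Macaulay morphisms: openness, and invariance of Cohen–Macaulay fibres under base change.
-/

universe u

open CategoryTheory CategoryTheory.Limits AlgebraicGeometry TopologicalSpace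
open scoped TensorProduct

namespace Groth.Agent.FibreCM5

/-- A Cohen–Macaulay local ring, by dimension and depth. -/
theorem isCM_iff_dim_eq_depth (R : Type u) [CommRing R] [IsLocalRing R] [IsNoetherianRing R] :
    LocCoh.IsCohenMacaulayLocalRing R ↔ ringKrullDim R = ((LocCoh.depth R R : ℕ∞) : WithBot ℕ∞) := by
  rw [← Module.supportDim_self_eq_ringKrullDim]
  exact ⟨fun h => h.supportDim_eq_depth, fun h => { supportDim_eq_depth := h }⟩

/-- Field extensions preserve and reflect Cohen–Macaulay local rings of algebras. -/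
theorem isCM_tensor_field_iff {k : Type u} [Field k] (S : Type u) [CommRing S] [Algebra k S]
    [IsNoetherianRing S] (K : Type u) [Field K] [Algebra k K] [IsNoetherianRing (S ⊗[k] K)]
    (q : Ideal (S ⊗[k] K)) [q.IsPrime] :
    LocCoh.IsCohenMacaulayLocalRing (Localization.AtPrime q) ↔
      LocCoh.IsCohenMacaulayLocalRing
        (Localization.AtPrime (q.comap (algebraMap S (S ⊗[k] K)))) := by
  constructor
  · intro h
    obtain ⟨hd, hdim⟩ := FlatDepth.ring_invariants (A := S) q
    haveI : IsNoetherianRing (EGA4.FibLocRing S (S ⊗[k] K) q) := inferInstance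
    have hF := (FlatDepth.forall_skIneq_iff _).1 fun n =>
      FlatDepth.skIneq_fibLoc_field (k := k) S K n q
    rw [isCM_iff_dim_eq_depth] at h hF ⊢
    obtain ⟨a, ha⟩ := DepthLib.exists_supportDim_eq_natCast
      (R := Localization.AtPrime (q.comap (algebraMap S (S ⊗[k] K))))
      (M := Localization.AtPrime (q.comap (algebraMap S (S ⊗[k] K))))
    rw [Module.supportDim_self_eq_ringKrullDim] at ha
    obtain ⟨b, hb⟩ := DepthLib.exists_supportDim_eq_natCast
      (R := EGA4.FibLocRing S (S ⊗[k] K) q) (M := EGA4.FibLocRing S (S ⊗[k] K) q)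
    rw [Module.supportDim_self_eq_ringKrullDim] at hb
    rw [hd, hdim, ha, hb] at h
    rw [hb] at hF
    rw [ha]
    generalize LocCoh.depth (EGA4.FibLocRing S (S ⊗[k] K) q) (EGA4.FibLocRing S (S ⊗[k] K) q) = d at h hF
    generalize LocCoh.depth (Localization.AtPrime (q.comap (algebraMap S (S ⊗[k] K))))
      (Localization.AtPrime (q.comap (algebraMap S (S ⊗[k] K)))) = c at h ⊢
    have hd' : d = (b : ℕ∞) := (WithBot.coe_inj.1 hF).symm
    subst hd'
    have h' : ((a : ℕ∞) + (b : ℕ∞)) = c + (b : ℕ∞) := WithBot.coe_inj.1 (by push_cast at h ⊢; exact h)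
    exact congrArg _ (WithTop.add_right_cancel (ENat.coe_ne_top b) h')
  · intro h
    haveI : IsNoetherianRing (Localization.AtPrime q) := inferInstance
    exact (FlatDepth.forall_skIneq_iff _).1 fun n => FlatDepth.skIneq_of_fibre (A := S) n q
      ((FlatDepth.forall_skIneq_iff _).2 h n) (FlatDepth.skIneq_fibLoc_field (k := k) S K n q)

theorem isCM_stalk_openImmersion_iff {U X : Scheme.{u}} (j : U ⟶ X) [IsOpenImmersion j] (x : U) :
    LocCoh.IsCohenMacaulayLocalRing (U.presheaf.stalk x) ↔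
      LocCoh.IsCohenMacaulayLocalRing (X.presheaf.stalk (j x)) :=
  ⟨SMT.isCM_of_ringEquiv (asIso (j.stalkMap x)).commRingCatIsoToRingEquiv.symm,
    SMT.isCM_of_ringEquiv (asIso (j.stalkMap x)).commRingCatIsoToRingEquiv⟩

theorem isCM_stalk_Spec_iff (R : Type u) [CommRing R] (p : Spec (CommRingCat.of R)) :
    LocCoh.IsCohenMacaulayLocalRing ((Spec (CommRingCat.of R)).presheaf.stalk p) ↔
      LocCoh.IsCohenMacaulayLocalRing (Localization.AtPrime (show PrimeSpectrum R from p).asIdeal) :=
  ⟨SMT.isCM_of_ringEquiv (StructureSheaf.stalkIso R p).symm.toRingEquiv,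
    SMT.isCM_of_ringEquiv (StructureSheaf.stalkIso R p).toRingEquiv⟩

/-- Field extensions of a scheme locally of finite type over a field. -/
theorem isCM_stalk_field_bc_iff {k K : Type u} [Field k] [Field K] (φ : k →+* K) {Z Z' : Scheme.{u}}
    {pr : Z' ⟶ Z} {t' : Z' ⟶ Spec (CommRingCat.of K)} {t : Z ⟶ Spec (CommRingCat.of k)}
    [LocallyOfFiniteType t] (sq : IsPullback pr t' t (Spec.map (CommRingCat.ofHom φ))) (w : Z') :
    LocCoh.IsCohenMacaulayLocalRing (Z'.presheaf.stalk w) ↔
      LocCoh.IsCohenMacaulayLocalRing (Z.presheaf.stalk (pr w)) := by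
  obtain ⟨_, ⟨U, hU, rfl⟩, hwU, -⟩ :=
    Z.isBasis_affineOpens.exists_subset_of_mem_open (Set.mem_univ (pr w)) isOpen_univ
  revert U
  intro (U : Z.Opens) hU hwU
  let A : Type u := Γ(Z, U)
  let j : Spec (CommRingCat.of A) ⟶ Z := hU.fromSpec
  let ψ : CommRingCat.of k ⟶ CommRingCat.of A := Spec.preimage (j ≫ t)
  have hψ : Spec.map ψ = j ≫ t := Spec.map_preimage _
  letI : Algebra k A := ψ.hom.toAlgebra
  letI : Algebra k K := φ.toAlgebra
  haveI : LocallyOfFiniteType (Spec.map ψ) := hψ ▸ inferInstance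
  have hft : ψ.hom.FiniteType := (HasRingHomProperty.Spec_iff (P := @LocallyOfFiniteType)).1 ‹_›
  haveI : Algebra.FiniteType k A := hft
  obtain ⟨u₀, hu₀⟩ : pr w ∈ Set.range j := by rw [hU.range_fromSpec]; exact hwU
  have h1 : IsPullback (pullback.fst j pr) (pullback.snd j pr ≫ t') (Spec.map ψ)
      (Spec.map (CommRingCat.ofHom φ)) := by
    rw [hψ]
    exact ((IsPullback.of_hasPullback j pr).flip.paste_horiz sq.flip).flip
  have h2 : IsPullback (Spec.map (CommRingCat.ofHom (algebraMap A (A ⊗[k] K))))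
      (Spec.map (CommRingCat.ofHom (Algebra.TensorProduct.includeRight (R := k) (A := A) (B := K)).toRingHom))
      (Spec.map ψ) (Spec.map (CommRingCat.ofHom φ)) := by
    have := (FibreLocus.isPullback_specT_tensor k A K).flip
    exact this
  haveI : IsNoetherianRing A := Algebra.FiniteType.isNoetherianRing k A
  haveI : IsNoetherianRing (K ⊗[k] A) := Algebra.FiniteType.isNoetherianRing K _
  haveI : IsNoetherianRing (A ⊗[k] K) :=
    isNoetherianRing_of_ringEquiv (K ⊗[k] A) (Algebra.TensorProduct.comm k K A).toRingEquiv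
  let e := IsPullback.isoIsPullback _ _ h1 h2
  have he : e.hom ≫ Spec.map (CommRingCat.ofHom (algebraMap A (A ⊗[k] K))) = pullback.fst j pr :=
    IsPullback.isoIsPullback_hom_fst _ _ h1 h2
  obtain ⟨z, hz1, hz2⟩ := Scheme.Pullback.exists_preimage_pullback (f := j) (g := pr) u₀ w hu₀
  have hq : Spec.map (CommRingCat.ofHom (algebraMap A (A ⊗[k] K))) (e.hom z) = u₀ := by
    rw [← Scheme.Hom.comp_apply, he, hz1]
  haveI : IsOpenImmersion (pullback.snd j pr) := inferInstance
  rw [← hz2, ← isCM_stalk_openImmersion_iff (pullback.snd j pr), isCM_stalk_openImmersion_iff e.hom,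
    isCM_stalk_Spec_iff, isCM_tensor_field_iff A K, hz2, ← hu₀, ← isCM_stalk_openImmersion_iff j,
    isCM_stalk_Spec_iff, ← hq]
  rfl

/-- Cohen–Macaulay fibres are invariant under base change. -/
theorem isCM_fibre_bc_iff {X S X' S' : Scheme.{u}} {f : X ⟶ S} {g : S' ⟶ S} {g' : X' ⟶ X} {f' : X' ⟶ S'}
    [LocallyOfFiniteType f] (hsq : IsPullback g' f' f g) (x' : X') :
    LocCoh.IsCohenMacaulayLocalRing ((f'.fiber (f' x')).presheaf.stalk (f'.asFiber x')) ↔
      LocCoh.IsCohenMacaulayLocalRing ((f.fiber (f (g' x'))).presheaf.stalk (f.asFiber (g' x'))) := by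
  haveI : LocallyOfFiniteType f' := MorphismProperty.of_isPullback hsq ‹_›
  obtain ⟨pr, hpr, sq⟩ := FibDim14.exists_fibre_square hsq (f' x')
  have hfib : f (g' x') = g (f' x') := by
    rw [← Scheme.Hom.comp_apply, hsq.w, Scheme.Hom.comp_apply]
  haveI : LocallyOfFiniteType (FibDim14.toPt f (g (f' x'))) :=
    MorphismProperty.pullback_snd _ _ ‹LocallyOfFiniteType f›
  have key := isCM_stalk_field_bc_iff (FibDim14.resExt g (f' x')).hom sq (f'.asFiber x')
  refine key.trans ?_
  have hgen : ∀ (s : S) (hs : f (g' x') = s) (z : f.fiber s), f.fiberι s z = g' x' →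
      (LocCoh.IsCohenMacaulayLocalRing ((f.fiber s).presheaf.stalk z) ↔
        LocCoh.IsCohenMacaulayLocalRing ((f.fiber (f (g' x'))).presheaf.stalk (f.asFiber (g' x')))) := by
    rintro s rfl z hz
    rw [(f.fiberι _).isEmbedding.injective (hz.trans (f.fiberι_asFiber _).symm)]
  exact hgen _ hfib _ (by rw [hpr, f'.fiberι_asFiber])

/-- The Cohen–Macaulay locus is open. -/
theorem isOpen_isCMAt {X Y : Scheme.{u}} (f : X ⟶ Y) [LocallyOfFinitePresentation f] :
    IsOpen {x : X | MoreMor.IsCMAt f x} := by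
  refine isOpen_iff_forall_mem_open.mpr fun x hx => ?_
  obtain ⟨n, U, hxU, g, hg, hqf, hfl⟩ := (S4949.result f x).1 hx
  haveI : LocallyOfFinitePresentation (g ≫ (𝔸(ULift.{u} (Fin n); Y) ↘ Y)) := hg.symm ▸ inferInstance
  haveI : LocallyOfFinitePresentation g :=
    SchBasic.locallyOfFinitePresentation_of_comp g (𝔸(ULift.{u} (Fin n); Y) ↘ Y)
  refine ⟨U.ι '' {p | (g.stalkMap p).hom.Flat}, ?_,
    U.ι.isOpenEmbedding.isOpenMap _ (FlatH4.isOpen_flatLocus g), ⟨⟨x, hxU⟩, hfl, rfl⟩⟩
  rintro _ ⟨⟨p, hp⟩, hfp, rfl⟩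
  exact (S4949.result f p).2 ⟨n, U, hp, g, hg, hqf, hfp⟩

end Groth.Agent.FibreCM5

namespace Groth.Agent.FibreCM5

/-- At a point of a scheme over a field, the fibre is the scheme itself. -/
theorem isCM_fibre_over_field_iff {k : Type u} [Field k] {X : Scheme.{u}}
    (t : X ⟶ Spec (CommRingCat.of k)) (x : X) :
    LocCoh.IsCohenMacaulayLocalRing ((t.fiber (t x)).presheaf.stalk (t.asFiber x)) ↔
      LocCoh.IsCohenMacaulayLocalRing (X.presheaf.stalk x) := by
  haveI : IsIso ((Spec (CommRingCat.of k)).fromSpecResidueField (t x)) :=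
    ConsH13.isIso_fromSpecResidueField_of_subsingleton _ _
  haveI : IsIso (t.fiberι (t x)) := inferInstanceAs (IsIso (pullback.fst _ _))
  rw [isCM_stalk_openImmersion_iff (t.fiberι (t x))]
  exact ⟨CMEquiDim4.isCM_stalk_of_eq (t.fiberι_asFiber x), CMEquiDim4.isCM_stalk_of_eq (t.fiberι_asFiber x).symm⟩

theorem isOpen_setOf_isCM_algebra (k S : Type u) [Field k] [CommRing S] [Algebra k S]
    [Algebra.FiniteType k S] :
    IsOpen {q : PrimeSpectrum S | LocCoh.IsCohenMacaulayLocalRing (Localization.AtPrime q.asIdeal)} := by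
  haveI : Algebra.FinitePresentation k S := Algebra.FinitePresentation.of_finiteType.1 inferInstance
  let t := FibreLocus.specT k S
  haveI : LocallyOfFinitePresentation t :=
    (LocallyOfFinitePresentation.SpecMap_iff _).2 (RingHom.finitePresentation_algebraMap.2 inferInstance)
  haveI : Flat t := by
    rw [HasRingHomProperty.Spec_iff (P := @Flat)]
    exact RingHom.flat_algebraMap_iff.2 inferInstance
  refine (congrArg IsOpen (Set.ext fun q => ?_)).mp (isOpen_isCMAt t)
  refine ⟨fun h => (isCM_stalk_Spec_iff S q).1 ((isCM_fibre_over_field_iff t q).1 h.2),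
    fun h => ⟨Flat.stalkMap t q, (isCM_fibre_over_field_iff t q).2 ((isCM_stalk_Spec_iff S q).2 h)⟩⟩

end Groth.Agent.FibreCM5
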