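import Groth.Agent.Lib.FibreCM5.Basic
import Groth.Agent.Lib.FibreLocus.Fibre
import Groth.Agent.Lib.FibreLocus.Flat

/-!
The locus of Cohen–Macaulay fibres is locally constructible.
-/

universe u

open CategoryTheory CategoryTheory.Limits AlgebraicGeometry Topology

namespace Groth.Agent.FibreCM5

open FibreLocus

/-- The fibre through the point is Cohen–Macaulay there (and the map is of finite type near it). -/
def CMPt {X Y : Scheme.{u}} (φ : X ⟶ Y) (x : X) : Prop :=
  ∃ U : X.Opens, ∃ hx : x ∈ U, LocallyOfFiniteType (U.ι ≫ φ) ∧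
    LocCoh.IsCohenMacaulayLocalRing
      (((U.ι ≫ φ).fiber ((U.ι ≫ φ) ⟨x, hx⟩)).presheaf.stalk ((U.ι ≫ φ).asFiber ⟨x, hx⟩))

theorem isCM_fibre_comp_iff {W X S : Scheme.{u}} (j : W ⟶ X) [IsOpenImmersion j] (φ : X ⟶ S) (w : W) :
    LocCoh.IsCohenMacaulayLocalRing (((j ≫ φ).fiber ((j ≫ φ) w)).presheaf.stalk ((j ≫ φ).asFiber w)) ↔
      LocCoh.IsCohenMacaulayLocalRing ((φ.fiber (φ (j w))).presheaf.stalk (φ.asFiber (j w))) := by
  haveI : IsOpenImmersion (FibDim14.fibMap j φ ((j ≫ φ) w)) :=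
    MorphismProperty.of_isPullback (CMEquiDim4.isPullback_fibMap j φ ((j ≫ φ) w)) ‹IsOpenImmersion j›
  rw [isCM_stalk_openImmersion_iff (FibDim14.fibMap j φ ((j ≫ φ) w))]
  have hpt : FibDim14.fibMap j φ ((j ≫ φ) w) ((j ≫ φ).asFiber w) = φ.asFiber (j w) := by
    refine (φ.fiberι (φ (j w))).isEmbedding.injective ?_
    rw [φ.fiberι_asFiber]
    refine (FibDim14.fiberι_fibMap j φ ((j ≫ φ) w) _).trans ?_
    rw [(j ≫ φ).fiberι_asFiber]
  exact ⟨CMEquiDim4.isCM_stalk_of_eq hpt, CMEquiDim4.isCM_stalk_of_eq hpt.symm⟩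

theorem cmPt_iff {X Y : Scheme.{u}} (φ : X ⟶ Y) [LocallyOfFiniteType φ] (x : X) :
    CMPt φ x ↔ LocCoh.IsCohenMacaulayLocalRing ((φ.fiber (φ x)).presheaf.stalk (φ.asFiber x)) := by
  refine ⟨fun ⟨U, hx, _, h⟩ => (isCM_fibre_comp_iff U.ι φ ⟨x, hx⟩).1 h, fun h => ?_⟩
  exact ⟨⊤, trivial, inferInstance,
    (isCM_fibre_comp_iff (⊤ : X.Opens).ι φ ⟨x, trivial⟩).2 h⟩

theorem isPtLocal_cmPt : IsPtLocal @CMPt.{u} where
  bc {P X Y Y' a b f g} hP z h := by
    obtain ⟨U, hzU, hU, hcm⟩ := h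
    have sq := (isPullback_morphismRestrict a U).paste_vert hP
    haveI := hU
    refine ⟨a ⁻¹ᵁ U, hzU, MorphismProperty.of_isPullback sq hU, ?_⟩
    refine (isCM_fibre_bc_iff sq ⟨z, hzU⟩).2 ?_
    have hp : (a ∣_ U) ⟨z, hzU⟩ = ⟨a z, hzU⟩ := U.ι.isOpenEmbedding.injective (by
      rw [← Scheme.Hom.comp_apply, morphismRestrict_ι]; rfl)
    rw [hp]
    exact hcm
  desc {P X Y Y' a b f g} hP _ _ z h := by
    haveI : LocallyOfFiniteType b := MorphismProperty.of_isPullback hP inferInstance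
    rw [cmPt_iff] at h ⊢
    exact (isCM_fibre_bc_iff hP z).1 h
  open_source {U X Y} i φ _ z := by
    constructor
    · rintro ⟨V, hzV, hV, hcm⟩
      have e : (V.ι ≫ i) ≫ φ = V.ι ≫ i ≫ φ := Category.assoc _ _ _
      haveI : LocallyOfFiniteType ((V.ι ≫ i) ≫ φ) := by rw [e]; exact hV
      haveI : LocallyOfFiniteType ((i ''ᵁ V).ι ≫ φ) := by
        have : (i ''ᵁ V).ι ≫ φ = (i.isoImage V).inv ≫ (V.ι ≫ i) ≫ φ := by
          rw [← Category.assoc, Scheme.Hom.isoImage_inv_ι]
        rw [this]; infer_instance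
      refine ⟨i ''ᵁ V, ⟨z, hzV, rfl⟩, inferInstance, ?_⟩
      rw [isCM_fibre_comp_iff (i ''ᵁ V).ι φ]
      exact (isCM_fibre_comp_iff i φ z).1 ((isCM_fibre_comp_iff V.ι (i ≫ φ) ⟨z, hzV⟩).1 hcm)
    · rintro ⟨V, hzV, hV, hcm⟩
      refine ⟨i ⁻¹ᵁ V, hzV, ?_, ?_⟩
      · haveI := hV
        rw [← Category.assoc, ← morphismRestrict_ι, Category.assoc]
        infer_instance
      · exact (isCM_fibre_comp_iff (i ⁻¹ᵁ V).ι (i ≫ φ) ⟨z, hzV⟩).2
          ((isCM_fibre_comp_iff i φ z).2 ((isCM_fibre_comp_iff V.ι φ ⟨i z, hzV⟩).1 hcm))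

/-- Over a noetherian ring. -/
theorem isConstructible_setOf_cmPt (B C : Type u) [CommRing B] [CommRing C] [Algebra B C]
    [IsNoetherianRing B] [Algebra.FiniteType B C] :
    IsConstructible {q : ↥(Spec (CommRingCat.of C)) | CMPt (specT B C) q} := by
  classical
  haveI : IsNoetherianRing C := Algebra.FiniteType.isNoetherianRing B C
  haveI : LocallyOfFiniteType (specT B C) := by
    rw [HasRingHomProperty.Spec_iff (P := @LocallyOfFiniteType)]
    exact RingHom.finiteType_algebraMap.2 inferInstance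
  let E : Set (PrimeSpectrum C) := {q | CMPt (specT B C) q}
  let h : PrimeSpectrum C → PrimeSpectrum B := PrimeSpectrum.comap (algebraMap B C)
  suffices H : ∀ I : Ideal B, IsConstructible (E ∩ h ⁻¹' PrimeSpectrum.zeroLocus (I : Set B)) by
    have h0 := H ⊥
    rw [show h ⁻¹' PrimeSpectrum.zeroLocus ((⊥ : Ideal B) : Set B) = Set.univ by
      simp [PrimeSpectrum.zeroLocus_bot], Set.inter_univ] at h0
    exact h0
  intro I
  induction I using (wellFounded_gt (α := Ideal B)).induction with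
  | _ I IH =>
  by_cases hI : I.IsPrime
  swap
  · have hfin := Ideal.finite_minimalPrimes_of_isNoetherianRing B I
    have heq : h ⁻¹' PrimeSpectrum.zeroLocus (I : Set B) =
        ⋃ p ∈ I.minimalPrimes, h ⁻¹' PrimeSpectrum.zeroLocus (p : Set B) := by
      ext q
      simp only [Set.mem_preimage, PrimeSpectrum.mem_zeroLocus, Set.mem_iUnion, SetLike.coe_subset_coe]
      refine ⟨fun hq => ?_, fun ⟨p, hp, hpq⟩ => hp.1.2.trans hpq⟩
      obtain ⟨p, hp, hpq⟩ := Ideal.exists_minimalPrimes_le hq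
      exact ⟨p, hp, hpq⟩
    rw [heq, Set.inter_iUnion₂]
    refine IsConstructible.biUnion hfin fun p hp => IH p (lt_of_le_of_ne hp.1.2 ?_)
    rintro rfl
    exact hI hp.1.1
  let B' := B ⧸ I
  let C' := TensorProduct B B' C
  haveI : IsNoetherianRing C' := Algebra.FiniteType.isNoetherianRing B' C'
  let qC : Spec (CommRingCat.of C') ⟶ Spec (CommRingCat.of C) := Spec.map (CommRingCat.ofHom
    (Algebra.TensorProduct.includeRight (R := B) (A := B') (B := C)).toRingHom)
  have hX : IsPullback qC (specT B' C') (specT B C) (specT B B') := isPullback_specT_tensor B B' C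
  haveI : Algebra.FinitePresentation B' C' := Algebra.FinitePresentation.of_finiteType.1 inferInstance
  haveI : LocallyOfFinitePresentation (specT B' C') :=
    (LocallyOfFinitePresentation.SpecMap_iff _).2 (RingHom.finitePresentation_algebraMap.2 inferInstance)
  obtain ⟨a, ha, hfl⟩ := exists_flatPt_basicOpen B' C'
  obtain ⟨a, rfl⟩ := Ideal.Quotient.mk_surjective a
  have haI : a ∉ I := fun h' => ha (Ideal.Quotient.eq_zero_iff_mem.2 h')
  let a' : C' := algebraMap B' C' (Ideal.Quotient.mk I a)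
  have hopen : IsOpen ({q : ↥(Spec (CommRingCat.of C')) | MoreMor.IsCMAt (specT B' C') q} ∩
      (PrimeSpectrum.basicOpen a' : Set (PrimeSpectrum C'))) :=
    IsOpen.inter (X := PrimeSpectrum C') (isOpen_isCMAt (specT B' C')) (PrimeSpectrum.basicOpen a').2
  have hloc : {q : ↥(Spec (CommRingCat.of C')) | MoreMor.IsCMAt (specT B' C') q} ∩
      (PrimeSpectrum.basicOpen a' : Set (PrimeSpectrum C')) =
      (qC ⁻¹' E) ∩ (PrimeSpectrum.basicOpen a' : Set (PrimeSpectrum C')) := by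
    ext q
    refine ⟨fun ⟨h1, h2⟩ => ⟨?_, h2⟩, fun ⟨h1, h2⟩ => ⟨⟨hfl q h2, ?_⟩, h2⟩⟩
    · show CMPt (specT B C) (qC q)
      rw [cmPt_iff, ← isCM_fibre_bc_iff hX q]
      exact h1.2
    · have h1' : CMPt (specT B C) (qC q) := h1
      rw [cmPt_iff, ← isCM_fibre_bc_iff hX q] at h1'
      exact h1'
  have hrange : Set.range qC = h ⁻¹' PrimeSpectrum.zeroLocus (I : Set B) := by
    rw [range_eq_preimage_of_isPullback hX]
    congr 1
    show Set.range (PrimeSpectrum.comap (algebraMap B B')) = _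
    rw [range_comap_of_surjective _ (algebraMap B B') Ideal.Quotient.mk_surjective]
    exact congrArg PrimeSpectrum.zeroLocus (congrArg SetLike.coe (Ideal.mk_ker (I := I)))
  have himg : IsConstructible (qC '' ((qC ⁻¹' E) ∩ (PrimeSpectrum.basicOpen a' : Set (PrimeSpectrum C')))) := by
    refine PrimeSpectrum.isConstructible_comap_image ?_
      (hloc ▸ (TopologicalSpace.NoetherianSpace.isCompact _).isConstructible hopen)
    refine RingHom.FinitePresentation.of_finiteType.1 (RingHom.FiniteType.of_surjective _ ?_)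
    exact Algebra.TensorProduct.includeRight_surjective (R := B) (S := B') C Ideal.Quotient.mk_surjective
  have hsub : h ⁻¹' PrimeSpectrum.zeroLocus (I : Set B) =
      (h ⁻¹' PrimeSpectrum.zeroLocus (I : Set B) ∩ {q | algebraMap B C a ∉ q.asIdeal}) ∪
        h ⁻¹' PrimeSpectrum.zeroLocus ((I ⊔ Ideal.span {a} : Ideal B) : Set B) := by
    ext q
    simp only [Set.mem_preimage, PrimeSpectrum.mem_zeroLocus, Set.mem_union, Set.mem_inter_iff,
      SetLike.coe_subset_coe, Set.mem_setOf_eq, sup_le_iff, Ideal.span_le, Set.singleton_subset_iff]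
    by_cases hqa : algebraMap B C a ∈ q.asIdeal
    · exact ⟨fun h' => Or.inr ⟨h', hqa⟩, fun h' => h'.elim (fun h'' => absurd hqa h''.2) And.left⟩
    · exact ⟨fun h' => Or.inl ⟨h', hqa⟩, fun h' => h'.elim And.left And.left⟩
  rw [hsub, Set.inter_union_distrib_left]
  refine IsConstructible.union ?_ (IH _ (lt_of_le_of_ne le_sup_left fun h' =>
    haI (h'.ge (le_sup_right (a := I) (Ideal.mem_span_singleton_self a)))))
  have hcomm : a' = Algebra.TensorProduct.includeRight (R := B) (A := B') (B := C) (algebraMap B C a) := by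
    rw [AlgHom.commutes]
    exact (IsScalarTower.algebraMap_apply B B' C' a).symm
  refine (congrArg IsConstructible (Set.ext fun q => ⟨?_, ?_⟩)).mp himg
  · rintro ⟨q', ⟨hqE, hqa⟩, rfl⟩
    replace hqa : a' ∉ (show PrimeSpectrum C' from q').asIdeal := hqa
    rw [hcomm] at hqa
    exact ⟨hqE, hrange.le ⟨q', rfl⟩, hqa⟩
  · rintro ⟨hqE, hqI, hqa⟩
    obtain ⟨q', rfl⟩ := hrange.ge hqI
    refine ⟨q', ⟨hqE, ?_⟩, rfl⟩
    show a' ∉ (show PrimeSpectrum C' from q').asIdeal
    rw [hcomm]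
    exact hqa

theorem mem_fibSet_cmPt_iff {X Y S : Scheme.{u}} (f : X ⟶ Y) (g : Y ⟶ S) [LocallyOfFiniteType f]
    (x : X) : x ∈ fibSet CMPt f g ↔ CMPt f x := by
  obtain ⟨z, hz⟩ := exists_fibre_point f g x _ rfl
  rw [mem_fibSet_iff f g z hz, cmPt_iff, cmPt_iff, isCM_fibre_bc_iff (IsPullback.of_hasPullback f _) z, hz]

theorem genConstr_cmPt : GenConstr @CMPt.{u} := by
  intro R B C _ _ _ _ _ _ _ _ _ _ _
  haveI : IsNoetherianRing B := Algebra.FiniteType.isNoetherianRing R B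
  haveI : Algebra.FiniteType B C := Algebra.FiniteType.of_restrictScalars_finiteType R B C
  haveI : LocallyOfFiniteType (specT B C) := by
    rw [HasRingHomProperty.Spec_iff (P := @LocallyOfFiniteType)]
    exact RingHom.finiteType_algebraMap.2 inferInstance
  refine ⟨1, one_ne_zero, ?_⟩
  refine (congrArg IsConstructible (Set.ext fun q => ?_)).mp (isConstructible_setOf_cmPt B C)
  refine ⟨fun h => ⟨(mem_fibSet_cmPt_iff _ _ q).2 h, ?_⟩, fun h => (mem_fibSet_cmPt_iff _ _ q).1 h.1⟩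
  show algebraMap R C 1 ∉ (show PrimeSpectrum C from q).asIdeal
  rw [map_one]
  exact fun h1 => (show PrimeSpectrum C from q).2.ne_top ((Ideal.eq_top_iff_one _).2 h1)

theorem isLocallyConstructible_setOf_isCM_fibre {X S : Scheme.{u}} (f : X ⟶ S)
    [LocallyOfFinitePresentation f] :
    IsLocallyConstructible {x : X |
      LocCoh.IsCohenMacaulayLocalRing ((f.fiber (f x)).presheaf.stalk (f.asFiber x))} := by
  have h := isLocallyConstructible_fibSet isPtLocal_cmPt genConstr_cmPt f (𝟙 S)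
  refine (congrArg IsLocallyConstructible (Set.ext fun x => ?_)).mp h
  rw [mem_fibSet_cmPt_iff, cmPt_iff]
  rfl

theorem isLocallyConstructible_setOf_forall_isCM_fibre {X S : Scheme.{u}} (f : X ⟶ S)
    [LocallyOfFinitePresentation f] [QuasiCompact f] :
    IsLocallyConstructible {s : S | ∀ z : ↥(f.fiber s),
      LocCoh.IsCohenMacaulayLocalRing ((f.fiber s).presheaf.stalk z)} := by
  have hc := isLocallyConstructible_setOf_isCM_fibre f
  refine (congrArg IsLocallyConstructible (Set.ext fun s => ?_)).mp (AnPtsTop.isLocallyConstructible_compl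
    (f.isLocallyConstructible_image (AnPtsTop.isLocallyConstructible_compl hc)))
  have key : ∀ (z : f.fiber s), LocCoh.IsCohenMacaulayLocalRing ((f.fiber s).presheaf.stalk z) ↔
      LocCoh.IsCohenMacaulayLocalRing ((f.fiber (f (f.fiberι s z))).presheaf.stalk (f.asFiber (f.fiberι s z))) := by
    intro z
    have hz : f (f.fiberι s z) = s := (Scheme.Hom.range_fiberι f s).le ⟨z, rfl⟩
    generalize hx : f.fiberι s z = x at hz ⊢
    subst hz
    rw [show z = f.asFiber x from (f.fiberι _).isEmbedding.injective (hx.trans (f.fiberι_asFiber x).symm)]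
  refine ⟨fun h z => ?_, fun h ⟨x, hx, hxs⟩ => ?_⟩
  · by_contra hz
    exact h ⟨f.fiberι s z, fun hc' => hz ((key z).2 hc'), (Scheme.Hom.range_fiberι f s).le ⟨z, rfl⟩⟩
  · subst hxs
    exact hx (h (f.asFiber x))

end Groth.Agent.FibreCM5
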